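import Mathlib

/-!
# Ext from the quotient by a weakly regular sequence

Computed one element at a time with the long exact sequence, without the Koszul complex.
-/

set_option autoImplicit false
universe u

open CategoryTheory Abelian

namespace Groth.Agent.KoszulExt

variable {A : Type u} [CommRing A]

/-- The cyclic module of an ideal. -/
abbrev cyc (J : Ideal A) : ModuleCat.{u} A := ModuleCat.of A (A ⧸ J)

variable {J J' : Ideal A} {x : A}

/-- Multiplication by `x` on `A/J'` followed by the projection to `A/J`. -/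
noncomputable def stepComplex (hJ : J = J' ⊔ Ideal.span {x}) : ShortComplex (ModuleCat.{u} A) :=
  ShortComplex.mk (X₁ := cyc J') (X₂ := cyc J') (X₃ := cyc J)
    (x • 𝟙 (cyc J')) (ModuleCat.ofHom (Submodule.factor (hJ ▸ le_sup_left : J' ≤ J)))
    (by
      refine ModuleCat.hom_ext (LinearMap.ext fun a => ?_)
      obtain ⟨a, rfl⟩ := Submodule.mkQ_surjective J' a
      show Submodule.factor (hJ ▸ le_sup_left : J' ≤ J) (x • Submodule.Quotient.mk a) = 0
      rw [map_smul, Submodule.factor, Submodule.mapQ_apply, LinearMap.id_apply, ← Submodule.Quotient.mk_smul, Submodule.Quotient.mk_eq_zero, hJ]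
      exact Ideal.mul_mem_right _ _ (Ideal.mem_sup_right (Ideal.mem_span_singleton_self x)))

theorem stepComplex_shortExact (hJ : J = J' ⊔ Ideal.span {x}) (hx : IsSMulRegular (A ⧸ J') x) :
    (stepComplex hJ).ShortExact where
  exact := by
    rw [ShortComplex.ShortExact.moduleCat_exact_iff_function_exact]
    intro b
    obtain ⟨b, rfl⟩ := Submodule.mkQ_surjective J' b
    show Submodule.factor (hJ ▸ le_sup_left : J' ≤ J) (Submodule.Quotient.mk b) = 0 ↔
      Submodule.Quotient.mk b ∈ Set.range fun c : A ⧸ J' => x • c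
    rw [Submodule.factor, Submodule.mapQ_apply, LinearMap.id_apply, Submodule.Quotient.mk_eq_zero, hJ, Submodule.mem_sup]
    constructor
    · rintro ⟨u, hu, v, hv, rfl⟩
      obtain ⟨a, rfl⟩ := Ideal.mem_span_singleton'.mp hv
      refine ⟨Submodule.Quotient.mk a, ?_⟩
      dsimp only
      rw [← Submodule.Quotient.mk_smul, Submodule.Quotient.eq]
      simpa [mul_comm] using J'.neg_mem hu
    · rintro ⟨c, hc⟩
      obtain ⟨c, rfl⟩ := Submodule.mkQ_surjective J' c
      simp only [Submodule.mkQ_apply, ← Submodule.Quotient.mk_smul, Submodule.Quotient.eq] at hc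
      exact ⟨b - c * x, by simpa [mul_comm] using J'.neg_mem hc, c * x,
        Ideal.mem_span_singleton'.mpr ⟨c, rfl⟩, by ring⟩
  mono_f := (ModuleCat.mono_iff_injective _).mpr hx
  epi_g := (ModuleCat.epi_iff_surjective _).mpr (Submodule.factor_surjective (hJ ▸ le_sup_left : J' ≤ J))

/-- The connecting map, linear. -/
noncomputable abbrev delta (hJ : J = J' ⊔ Ideal.span {x}) (hx : IsSMulRegular (A ⧸ J') x)
    (M : ModuleCat.{u} A) (n : ℕ) : Ext (cyc J') M n →ₗ[A] Ext (cyc J) M (n + 1) :=
  (stepComplex_shortExact hJ hx).extClass.precompOfLinear A M (Nat.add_comm 1 n)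

/-- Restriction along the projection, linear. -/
noncomputable abbrev res (hJ : J = J' ⊔ Ideal.span {x}) (M : ModuleCat.{u} A) (n : ℕ) :
    Ext (cyc J) M n →ₗ[A] Ext (cyc J') M n :=
  (Ext.mk₀ (stepComplex hJ).g).precompOfLinear A M (zero_add n)

theorem mk0_f_comp (hJ : J = J' ⊔ Ideal.span {x}) {M : ModuleCat.{u} A} {n : ℕ}
    (e : Ext (cyc J') M n) :
    (Ext.mk₀ (stepComplex hJ).f).comp e (zero_add n) = x • e := by
  show (Ext.mk₀ (x • 𝟙 (cyc J'))).comp e (zero_add n) = x • e
  rw [Ext.mk₀_smul, Ext.smul_comp, Ext.mk₀_id_comp]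

theorem delta_eq_zero_iff (hJ : J = J' ⊔ Ideal.span {x}) (hx : IsSMulRegular (A ⧸ J') x)
    {M : ModuleCat.{u} A} {n : ℕ} (e : Ext (cyc J') M n) :
    delta hJ hx M n e = 0 ↔ ∃ e', x • e' = e := by
  have hS := stepComplex_shortExact hJ hx
  constructor
  · intro h
    obtain ⟨e', he'⟩ := Ext.contravariant_sequence_exact₁ hS _ e (Nat.add_comm 1 n) h
    exact ⟨e', (mk0_f_comp hJ e').symm.trans he'⟩
  · rintro ⟨e', rfl⟩
    rw [← mk0_f_comp hJ e']
    exact hS.extClass_comp_assoc e' (h := Nat.add_comm 1 n)

theorem exists_delta_of_res_eq_zero (hJ : J = J' ⊔ Ideal.span {x}) (hx : IsSMulRegular (A ⧸ J') x)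
    {M : ModuleCat.{u} A} {n : ℕ} (e : Ext (cyc J) M (n + 1)) (he : res hJ M (n + 1) e = 0) :
    ∃ e', delta hJ hx M n e' = e :=
  Ext.contravariant_sequence_exact₃ (stepComplex_shortExact hJ hx) _ e he (Nat.add_comm 1 n)

theorem exists_res_of_smul_eq_zero (hJ : J = J' ⊔ Ideal.span {x}) (hx : IsSMulRegular (A ⧸ J') x)
    {M : ModuleCat.{u} A} {n : ℕ} (e : Ext (cyc J') M n) (he : x • e = 0) :
    ∃ e', res hJ M n e' = e :=
  Ext.contravariant_sequence_exact₂ (stepComplex_shortExact hJ hx) _ e ((mk0_f_comp hJ e).trans he)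

/-- Splitting off the last element of a weakly regular sequence. -/
theorem of_append_singleton {rs : List A} {y : A}
    (h : RingTheory.Sequence.IsWeaklyRegular A (rs ++ [y])) :
    RingTheory.Sequence.IsWeaklyRegular A rs ∧ IsSMulRegular (A ⧸ Ideal.ofList rs) y ∧
      Ideal.ofList (rs ++ [y]) = Ideal.ofList rs ⊔ Ideal.span {y} := by
  rw [RingTheory.Sequence.isWeaklyRegular_append_iff,
    RingTheory.Sequence.isWeaklyRegular_singleton_iff] at h
  refine ⟨h.1, ?_, by rw [Ideal.ofList_append, Ideal.ofList_singleton]⟩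
  exact ((Submodule.quotEquivOfEq _ _ (Ideal.mul_top _).symm).isSMulRegular_congr y).mpr h.2

theorem projective_cyc_bot : Projective (cyc (⊥ : Ideal A)) :=
  haveI : Module.Projective A (A ⧸ (⊥ : Ideal A)) :=
    Module.Projective.of_equiv (Submodule.quotEquivOfEqBot (⊥ : Submodule A A) rfl).symm
  (IsProjective.iff_projective _).mp inferInstance

/-- The quotient by a weakly regular sequence has projective dimension at most its length. -/
theorem hasPD_cyc (rs : List A) (h : RingTheory.Sequence.IsWeaklyRegular A rs) :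
    HasProjectiveDimensionLT (cyc (Ideal.ofList rs)) (rs.length + 1) := by
  induction rs using List.reverseRecOn with
  | nil =>
    rw [Ideal.ofList_nil, List.length_nil, zero_add, ← projective_iff_hasProjectiveDimensionLT_one]
    exact projective_cyc_bot
  | append_singleton rs y ih =>
    obtain ⟨h1, hy, hJ⟩ := of_append_singleton h
    rw [List.length_append, List.length_singleton]
    have h' := ih h1
    haveI : HasProjectiveDimensionLT (stepComplex hJ).X₂ (rs.length + 1) := h'
    exact (stepComplex_shortExact hJ hy).hasProjectiveDimensionLT_X₃ (rs.length + 1) h'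
      (hasProjectiveDimensionLT_of_ge _ (rs.length + 1) (rs.length + 1 + 1) (Nat.le_succ _))

/-- Degree zero Ext out of the free cyclic module. -/
noncomputable def extBotEquiv (M : ModuleCat.{u} A) : Ext (cyc (⊥ : Ideal A)) M 0 ≃ₗ[A] M :=
  Ext.linearEquiv₀.trans (ModuleCat.homLinearEquiv.trans
    (((LinearEquiv.congrLeft M A (Submodule.quotEquivOfEqBot (⊥ : Submodule A A) rfl))).trans
      (LinearMap.ringLmapEquivSelf A A M)))

/-- Top degree. -/
theorem exists_top_equiv (rs : List A) (h : RingTheory.Sequence.IsWeaklyRegular A rs)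
    (M : ModuleCat.{u} A) :
    Nonempty (Ext (cyc (Ideal.ofList rs)) M rs.length ≃ₗ[A]
      (M ⧸ (Ideal.ofList rs • (⊤ : Submodule A M)))) := by
  induction rs using List.reverseRecOn with
  | nil =>
    rw [Ideal.ofList_nil, List.length_nil]
    exact ⟨(extBotEquiv M).trans
      (Submodule.quotEquivOfEqBot _ (Submodule.bot_smul _)).symm⟩
  | append_singleton rs y ih =>
    obtain ⟨h1, hy, hJ⟩ := of_append_singleton h
    obtain ⟨e⟩ := ih h1
    rw [List.length_append, List.length_singleton]
    let φ : M →ₗ[A] Ext (cyc (Ideal.ofList (rs ++ [y]))) M (rs.length + 1) :=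
      (delta hJ hy M rs.length).comp (e.symm.toLinearMap.comp (Submodule.mkQ _))
    have hsurj : Function.Surjective φ := fun z => by
      haveI := hasPD_cyc rs h1
      haveI : Subsingleton (Ext (cyc (Ideal.ofList rs)) M (rs.length + 1)) :=
        HasProjectiveDimensionLT.subsingleton _ (rs.length + 1) _ le_rfl M
      obtain ⟨z', rfl⟩ := exists_delta_of_res_eq_zero hJ hy z (Subsingleton.elim _ _)
      obtain ⟨m, hm⟩ := Submodule.mkQ_surjective _ (e z')
      exact ⟨m, congrArg (delta hJ hy M rs.length) ((congrArg e.symm hm).trans (e.symm_apply_apply z'))⟩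
    have hker : LinearMap.ker φ = Ideal.ofList (rs ++ [y]) • (⊤ : Submodule A M) := by
      refine Eq.trans ?_ (congrArg (fun I : Ideal A => I • (⊤ : Submodule A M)) hJ.symm)
      rw [Submodule.sup_smul, Submodule.ideal_span_singleton_smul]
      ext m
      rw [LinearMap.mem_ker]
      refine (delta_eq_zero_iff hJ hy _).trans ?_
      constructor
      · rintro ⟨e', he'⟩
        obtain ⟨m', hm'⟩ := Submodule.mkQ_surjective _ (e e')
        have h2 : Submodule.Quotient.mk (p := Ideal.ofList rs • (⊤ : Submodule A M)) (y • m') =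
            Submodule.Quotient.mk m := by
          have h3 := congrArg e he'
          rw [map_smul, ← hm', LinearMap.comp_apply, LinearEquiv.coe_coe, e.apply_symm_apply] at h3
          simpa using h3
        rw [Submodule.Quotient.eq] at h2
        refine Submodule.mem_sup.mpr ⟨_, Submodule.neg_mem _ h2, y • m',
          Submodule.smul_mem_pointwise_smul _ _ _ Submodule.mem_top, ?_⟩
        abel
      · intro hm
        obtain ⟨a, ha, b, hb, rfl⟩ := Submodule.mem_sup.mp hm
        obtain ⟨b, -, rfl⟩ := hb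
        refine ⟨e.symm (Submodule.Quotient.mk b), ?_⟩
        have ha0 : Submodule.Quotient.mk (p := Ideal.ofList rs • (⊤ : Submodule A M)) a = 0 :=
          (Submodule.Quotient.mk_eq_zero _).mpr ha
        simp [← map_smul, ← Submodule.Quotient.mk_smul, ha0]
    exact ⟨((Submodule.quotEquivOfEq _ _ hker.symm).trans (φ.quotKerEquivOfSurjective hsurj)).symm⟩

end Groth.Agent.KoszulExt
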