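import Groth.Agent.KoszulExt.Basic

/-!
# Ext from the quotient by a weakly regular sequence into a killed module
-/

set_option autoImplicit false
universe u

open CategoryTheory Abelian

namespace Groth.Agent.KoszulExt

variable {A : Type u} [CommRing A]

section Killed

variable {J₀ : Ideal A} {M : ModuleCat.{u} A} (hM : ∀ a ∈ J₀, ∀ m : M, a • m = 0)

/-- An element of a module killed by `J₀` as a map out of `A/J₀`. -/
noncomputable def genL : M →ₗ[A] (cyc J₀ ⟶ M) where
  toFun m := ModuleCat.ofHom (Submodule.liftQ J₀ (LinearMap.toSpanSingleton A M m)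
    (fun a ha => LinearMap.mem_ker.mpr (hM a ha m)))
  map_add' m m' := ModuleCat.hom_ext (Submodule.linearMap_qext _ (LinearMap.ext fun a => smul_add a m m'))
  map_smul' r m := ModuleCat.hom_ext (Submodule.linearMap_qext _ (LinearMap.ext fun a => smul_comm a r m))

theorem genL_apply_one (m : M) : (genL hM m).hom (Submodule.Quotient.mk (1 : A)) = m :=
  one_smul A m

/-- Push a class with values in `A/J₀` forward along all elements of `M`. -/
noncomputable def pushGen {J : Ideal A} {n : ℕ} (e : Ext (cyc J) (cyc J₀) n) :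
    M →ₗ[A] Ext (cyc J) M n :=
  (Ext.bilinearCompOfLinear A (cyc J) (cyc J₀) M n 0 n (add_zero n) e).comp
    ((Ext.linearEquiv₀ (R := A)).symm.toLinearMap.comp (genL hM))

/-- Combine a family of classes. -/
noncomputable def pushFam {J : Ideal A} {n k : ℕ} (e : Fin k → Ext (cyc J) (cyc J₀) n) :
    (Fin k → M) →ₗ[A] Ext (cyc J) M n :=
  ∑ s, (pushGen hM (e s)).comp (LinearMap.proj s)

theorem pushFam_apply {J : Ideal A} {n k : ℕ} (e : Fin k → Ext (cyc J) (cyc J₀) n) (v : Fin k → M) :
    pushFam hM e v = ∑ s, pushGen hM (e s) (v s) := by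
  simp [pushFam]

theorem pushFam_append {J : Ideal A} {n k l : ℕ} (e : Fin k → Ext (cyc J) (cyc J₀) n)
    (e' : Fin l → Ext (cyc J) (cyc J₀) n) (v : Fin (k + l) → M) :
    pushFam hM (Fin.append e e') v =
      pushFam hM e (fun s => v (Fin.castAdd l s)) + pushFam hM e' (fun s => v (Fin.natAdd k s)) := by
  simp [pushFam_apply, Fin.sum_univ_add]

theorem pushFam_cast_bijective {J : Ideal A} {n k l : ℕ} (h : k = l)
    (e : Fin l → Ext (cyc J) (cyc J₀) n) (he : Function.Bijective (pushFam hM e)) :
    Function.Bijective (pushFam hM (fun s => e (Fin.cast h s))) := by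
  subst h
  exact he

variable {J J' : Ideal A} {x : A} (hJ : J = J' ⊔ Ideal.span {x}) (hx : IsSMulRegular (A ⧸ J') x)

theorem delta_pushFam {n k : ℕ} (e : Fin k → Ext (cyc J') (cyc J₀) n) (v : Fin k → M) :
    delta hJ hx M n (pushFam hM e v) = pushFam hM (fun s => delta hJ hx _ n (e s)) v := by
  rw [pushFam_apply, map_sum, pushFam_apply]
  refine Finset.sum_congr rfl fun s _ => ?_
  exact (Ext.comp_assoc_of_third_deg_zero
    (stepComplex_shortExact hJ hx).extClass (e s) _ (Nat.add_comm 1 n)).symm

theorem res_pushFam {n k : ℕ} (e : Fin k → Ext (cyc J) (cyc J₀) n) (v : Fin k → M) :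
    res hJ M n (pushFam hM e v) = pushFam hM (fun s => res hJ _ n (e s)) v := by
  rw [pushFam_apply, map_sum, pushFam_apply]
  refine Finset.sum_congr rfl fun s _ => ?_
  exact (Ext.comp_assoc_of_third_deg_zero (Ext.mk₀ (stepComplex hJ).g) (e s) _ (zero_add n)).symm

include hM

theorem smul_ext_eq_zero {X : ModuleCat.{u} A} {n : ℕ} {a : A} (ha : a ∈ J₀) (e : Ext X M n) :
    a • e = 0 := by
  have h : a • 𝟙 M = 0 := ModuleCat.hom_ext (LinearMap.ext fun m => hM a ha m)
  rw [Ext.smul_eq_comp_mk₀, h, Ext.mk₀_zero, Ext.comp_zero]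

end Killed

theorem killed_self (J₀ : Ideal A) : ∀ a ∈ J₀, ∀ m : cyc J₀, a • m = 0 := by
  intro a ha m
  obtain ⟨m, rfl⟩ := Submodule.mkQ_surjective J₀ m
  exact (Submodule.Quotient.mk_eq_zero _).mpr (Ideal.mul_mem_right m J₀ ha)

/-- Ext into modules killed by `J₀` is free on finitely many classes. -/
theorem exists_basis (J₀ : Ideal A) (rs : List A) (h : RingTheory.Sequence.IsWeaklyRegular A rs)
    (hle : Ideal.ofList rs ≤ J₀) (i : ℕ) :
    ∃ e : Fin (rs.length.choose i) → Ext (cyc (Ideal.ofList rs)) (cyc J₀) i,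
      ∀ (M : ModuleCat.{u} A) (hM : ∀ a ∈ J₀, ∀ m : M, a • m = 0), Function.Bijective (pushFam hM e) := by
  induction rs using List.reverseRecOn generalizing i with
  | nil =>
    rw [Ideal.ofList_nil]
    haveI : Projective (cyc (⊥ : Ideal A)) := projective_cyc_bot
    rcases i with _ | i
    · refine ⟨fun _ => Ext.mk₀ (ModuleCat.ofHom (Submodule.factor (bot_le : (⊥ : Ideal A) ≤ J₀))),
        fun M hM => ?_⟩
      have hk : ∀ s : Fin (([] : List A).length.choose 0), s = ⟨0, by simp⟩ := fun s =>
        Fin.ext (by have := s.2; simp at this ⊢)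
      have hval : ∀ v : Fin (([] : List A).length.choose 0) → M,
          extBotEquiv M (pushFam hM (fun _ => Ext.mk₀
            (ModuleCat.ofHom (Submodule.factor (bot_le : (⊥ : Ideal A) ≤ J₀)))) v) = v ⟨0, by simp⟩ := by
        intro v
        rw [pushFam_apply, Finset.sum_eq_single (⟨0, by simp⟩ : Fin (([] : List A).length.choose 0))
          (fun b _ hb => absurd (hk b) hb) (fun h => absurd (Finset.mem_univ _) h)]
        show extBotEquiv M ((Ext.mk₀ _).comp ((Ext.linearEquiv₀ (R := A)).symm (genL hM _)) (add_zero 0)) = _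
        rw [Ext.linearEquiv₀_symm_apply, Ext.mk₀_comp_mk₀]
        simp [extBotEquiv, genL, Ext.linearEquiv₀, Ext.addEquiv₀, Ext.homEquiv₀, ModuleCat.homLinearEquiv]
        exact one_smul A _
      refine ⟨fun v w hvw => funext fun s => ?_, fun z => ⟨fun _ => extBotEquiv M z, ?_⟩⟩
      · rw [hk s, ← hval v, ← hval w, hvw]
      · exact (extBotEquiv M).injective (hval _)
    · refine ⟨fun s => absurd s.2 (by simp), fun M hM => ⟨fun v w _ => funext fun s => absurd s.2 (by simp),
        fun z => ⟨0, ?_⟩⟩⟩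
      rw [map_zero, Ext.eq_zero_of_projective z]
  | append_singleton rs y ih =>
    obtain ⟨h1, hy, hJ⟩ := of_append_singleton h
    have hle' : Ideal.ofList rs ≤ J₀ := (hJ.symm ▸ le_sup_left : Ideal.ofList rs ≤ Ideal.ofList (rs ++ [y])).trans hle
    have hy0 : y ∈ J₀ := hle (hJ.symm ▸ Ideal.mem_sup_right (Ideal.mem_span_singleton_self y))
    have hδ : ∀ (M : ModuleCat.{u} A) (hM : ∀ a ∈ J₀, ∀ m : M, a • m = 0) (n : ℕ)
        (e : Ext (cyc (Ideal.ofList rs)) M n), delta hJ hy M n e = 0 → e = 0 := by
      intro M hM n e he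
      obtain ⟨e', rfl⟩ := (delta_eq_zero_iff hJ hy e).mp he
      exact smul_ext_eq_zero hM hy0 e'
    have hres : ∀ (M : ModuleCat.{u} A) (hM : ∀ a ∈ J₀, ∀ m : M, a • m = 0) (n : ℕ)
        (e : Ext (cyc (Ideal.ofList rs)) M n), ∃ e', res hJ M n e' = e := fun M hM n e =>
      exists_res_of_smul_eq_zero hJ hy e (smul_ext_eq_zero hM hy0 e)
    have hlen : (rs ++ [y]).length = rs.length + 1 := by simp
    obtain ⟨b, hb⟩ := ih h1 hle' i
    choose b' hb' using fun s => hres (cyc J₀) (killed_self J₀) i (b s)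
    rcases i with _ | i
    · have hk : (rs ++ [y]).length.choose 0 = rs.length.choose 0 := by simp
      refine ⟨fun s => b' (Fin.cast hk s), fun M hM => pushFam_cast_bijective hM hk b' ?_⟩
      have hinj : Function.Injective (res hJ M 0) :=
        Ext.precomp_mk₀_injective_of_epi M (stepComplex hJ).g (hg := (stepComplex_shortExact hJ hy).epi_g)
      have hv : ∀ v, res hJ M 0 (pushFam hM b' v) = pushFam hM b v := fun v => by
        rw [res_pushFam]; exact congrArg (fun c => pushFam hM c v) (funext hb')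
      refine ⟨fun v w hvw => (hb M hM).1 (by rw [← hv, ← hv, hvw]), fun z => ?_⟩
      obtain ⟨v, hv'⟩ := (hb M hM).2 (res hJ M 0 z)
      exact ⟨v, hinj ((hv v).trans hv')⟩
    · obtain ⟨a, ha⟩ := ih h1 hle' i
      have hk : (rs ++ [y]).length.choose (i + 1) =
          rs.length.choose i + rs.length.choose (i + 1) := by
        rw [hlen, Nat.choose_succ_succ]
      let a' := fun s => delta hJ hy (cyc J₀) i (a s)
      refine ⟨fun s => Fin.append a' b' (Fin.cast hk s),
        fun M hM => pushFam_cast_bijective hM hk _ ?_⟩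
      have hra : ∀ v, res hJ M (i + 1) (delta hJ hy M i v) = 0 := fun v =>
        (stepComplex_shortExact hJ hy).comp_extClass_assoc v (Nat.add_comm 1 i)
      have hva : ∀ v, pushFam hM a' v = delta hJ hy M i (pushFam hM a v) := fun v =>
        (delta_pushFam hM hJ hy a v).symm
      have hvb : ∀ v, res hJ M (i + 1) (pushFam hM b' v) = pushFam hM b v := fun v => by
        rw [res_pushFam]; exact congrArg (fun c => pushFam hM c v) (funext hb')
      constructor
      · rw [injective_iff_map_eq_zero]
        intro v hv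
        rw [pushFam_append, hva] at hv
        have h2 : (fun s => v (Fin.natAdd _ s)) = 0 := by
          refine (hb M hM).1 ?_
          rw [map_zero, ← hvb, ← map_zero (res hJ M (i + 1)), ← hv, map_add, hra, zero_add]
        rw [h2, map_zero, add_zero] at hv
        have h1' : (fun s => v (Fin.castAdd _ s)) = 0 :=
          (ha M hM).1 ((hδ M hM i _ hv).trans (map_zero _).symm)
        funext s
        exact Fin.addCases (fun s => congrFun h1' s) (fun s => congrFun h2 s) s
      · intro z
        obtain ⟨w₂, hw₂⟩ := (hb M hM).2 (res hJ M (i + 1) z)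
        obtain ⟨z₁, hz₁⟩ := exists_delta_of_res_eq_zero hJ hy (z - pushFam hM b' w₂)
          (by rw [map_sub, hvb, hw₂, sub_self])
        obtain ⟨w₁, hw₁⟩ := (ha M hM).2 z₁
        refine ⟨Fin.append w₁ w₂, ?_⟩
        rw [pushFam_append]
        simp only [Fin.append_left, Fin.append_right]
        rw [hva, hw₁, hz₁, sub_add_cancel]

end Groth.Agent.KoszulExt
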